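import Groth.Agent.DetCxLib.Core
import Groth.Prelude.Def_SGA4hB

/-! Even and odd determinants of an endomorphism of a contractible bounded complex of finite free modules. -/

set_option autoImplicit false
set_option backward.isDefEq.respectTransparency false

universe u

open CategoryTheory CategoryTheory.Limits Matrix Polynomial

noncomputable section

namespace Groth.Agent.DetCxLib

variable {A : Type u} [CommRing A]

theorem det_sigma_blockDiagonal {T : Type*} [Fintype T] [LinearOrder T] {m : T → Type*}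
    [∀ i, Fintype (m i)] [∀ i, DecidableEq (m i)] {R : Type*} [CommRing R]
    (M : ∀ i, Matrix (m i) (m i) R) : (blockDiagonal' M).det = ∏ i, (M i).det := by
  classical
  rw [(blockTriangular_blockDiagonal' M).det]
  refine (Finset.prod_subset (Finset.subset_univ _) fun i _ hi => ?_).trans
    (Finset.prod_congr rfl fun i _ => ?_)
  · haveI : IsEmpty (m i) := ⟨fun x => hi (Finset.mem_image.2 ⟨⟨i, x⟩, Finset.mem_univ _, rfl⟩)⟩
    haveI : IsEmpty {x : Σ j, m j // x.1 = i} := ⟨fun x => IsEmpty.false (x.2 ▸ x.1.2 : m i)⟩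
    exact det_isEmpty
  · rw [← det_submatrix_equiv_self (Equiv.sigmaSubtype i).symm]
    congr 1
    ext x y
    simp [toSquareBlock_def, Equiv.sigmaSubtype]

theorem detOneSub_eq {M : ModuleCat.{u} A} {ι : Type*} [Fintype ι] [DecidableEq ι]
    (b : Module.Basis ι A M) (u : M ⟶ M) :
    SGA4h.detOneSub M u = (1 - (X : A[X]) • (LinearMap.toMatrix b b u.hom).map C).det := by
  rw [SGA4h.detOneSub, ← LinearMap.det_toMatrix (Algebra.TensorProduct.basis A[X] b)]
  congr 1
  ext i j : 1
  rw [LinearMap.toMatrix_apply, LinearMap.sub_apply, LinearMap.smul_apply, LinearMap.id_apply, map_sub, map_smul,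
    Finsupp.sub_apply, Finsupp.smul_apply, Module.Basis.repr_self, Matrix.sub_apply, Matrix.smul_apply,
    ← LinearMap.toMatrix_apply, LinearMap.toMatrix_baseChange]
  simp [Finsupp.single_apply, Matrix.one_apply, eq_comm, Polynomial.algebraMap_eq]

theorem detOneSub_of_isZero {M : ModuleCat.{u} A} (hM : IsZero M) (u : M ⟶ M) :
    SGA4h.detOneSub M u = 1 := by
  haveI := ModuleCat.subsingleton_of_isZero hM
  haveI : Subsingleton (TensorProduct A A[X] M) := by
    refine ⟨fun x y => ?_⟩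
    have : ∀ z : TensorProduct A A[X] M, z = 0 := fun z => by
      induction z using TensorProduct.induction_on with
      | zero => rfl
      | tmul p m => rw [Subsingleton.elim m 0, TensorProduct.tmul_zero]
      | add _ _ h₁ h₂ => rw [h₁, h₂, add_zero]
    rw [this x, this y]
  exact LinearMap.det_eq_one_of_subsingleton _

theorem finprod_eq_prod_Icc (K : CochainComplex (ModuleCat.{u} A) ℤ) (u : K ⟶ K) (a b : ℤ)
    (hz : ∀ i, i ∉ Finset.Icc a b → IsZero (K.X i)) (p : ℤ → Prop) [DecidablePred p] :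
    ∏ᶠ i : {i : ℤ // p i}, SGA4h.detOneSub (K.X i.1) (u.f i.1) =
      ∏ i : ↥(Finset.Icc a b), if p i then SGA4h.detOneSub (K.X i) (u.f i) else 1 := by
  classical
  rw [finprod_eq_prod_of_mulSupport_subset (s := (Finset.Icc a b).subtype p)]
  · rw [Finset.prod_subtype_eq_prod_filter (f := fun i => SGA4h.detOneSub (K.X i) (u.f i)),
      Finset.prod_filter, ← Finset.prod_coe_sort]
  · intro i hi
    rw [Finset.mem_coe, Finset.mem_subtype]
    by_contra h
    exact hi (detOneSub_of_isZero (hz i h) _)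

section Contractible

variable (C₀ : CochainComplex (ModuleCat.{u} A) ℤ) (a b : ℤ)

/-- The index type of the range of degrees. -/
abbrev Rg (a b : ℤ) : Type := ↥(Finset.Icc a b)


variable {ι : (Rg a b) → Type u} [∀ i, Fintype (ι i)] [∀ i, DecidableEq (ι i)]
  (bas : ∀ i : (Rg a b), Module.Basis (ι i) A (C₀.X i))

/-- The matrix of a family of maps between the terms. -/
def blk (f : ∀ i j : ℤ, C₀.X i ⟶ C₀.X j) : Matrix (Σ i, ι i) (Σ i, ι i) A :=
  fun x y => LinearMap.toMatrix (bas y.1) (bas x.1) (f y.1 x.1).hom x.2 y.2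

theorem blk_mul (hz : ∀ i, i ∉ Finset.Icc a b → IsZero (C₀.X i)) (f g : ∀ i j : ℤ, C₀.X i ⟶ C₀.X j)
    (h : ∀ i j : ℤ, C₀.X i ⟶ C₀.X j) (l : ℤ → ℤ)
    (hl : ∀ i m, m ≠ l i → g i m = 0) (hh : ∀ i j, g i (l i) ≫ f (l i) j = h i j) :
    blk C₀ a b bas f * blk C₀ a b bas g = blk C₀ a b bas h := by
  classical
  ext x y
  rw [Matrix.mul_apply, Fintype.sum_sigma]
  simp only [blk]
  have e : ∀ m : (Rg a b), ∑ z, LinearMap.toMatrix (bas m) (bas x.1) (f m x.1).hom x.2 z *
      LinearMap.toMatrix (bas y.1) (bas m) (g y.1 m).hom z y.2 =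
      LinearMap.toMatrix (bas y.1) (bas x.1) (g y.1 m ≫ f m x.1).hom x.2 y.2 := fun m => by
    rw [← Matrix.mul_apply, ← LinearMap.toMatrix_comp]
    rfl
  rw [Finset.sum_congr rfl fun m _ => e m, ← hh]
  by_cases hm : l y.1 ∈ Finset.Icc a b
  · refine Finset.sum_eq_single (⟨l y.1, hm⟩ : (Rg a b)) (fun m _ hne => ?_) (fun hn => absurd (Finset.mem_univ _) hn)
    rw [hl y.1 m fun e => hne (Subtype.ext e)]
    simp
  · rw [(hz _ hm).eq_of_tgt (g y.1 (l y.1)) 0]
    refine (Finset.sum_eq_zero fun m _ => ?_).trans (by simp)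
    rw [hl y.1 m fun e => hm (e ▸ m.2)]
    simp

theorem blk_add (f g h : ∀ i j : ℤ, C₀.X i ⟶ C₀.X j) (hh : ∀ i j, h i j = f i j + g i j) :
    blk C₀ a b bas f + blk C₀ a b bas g = blk C₀ a b bas h := by
  ext x y
  simp [blk, hh]

theorem blk_zero (f : ∀ i j : ℤ, C₀.X i ⟶ C₀.X j) (hf : ∀ i j, f i j = 0) : blk C₀ a b bas f = 0 := by
  ext x y
  simp [blk, hf]

theorem supp_blk (f : ∀ i j : ℤ, C₀.X i ⟶ C₀.X j) (k : ℤ) (hf : ∀ i j, j ≠ i + k → f i j = 0) :
    Supp (fun x : (Σ i, ι i) => (x.1 : ℤ)) (blk C₀ a b bas f) k := by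
  intro x y h
  by_contra hne
  exact h (by simp [blk, hf _ _ hne])

theorem blk_diag (w : ∀ i : ℤ, C₀.X i ⟶ C₀.X i) (f : ∀ i j : ℤ, C₀.X i ⟶ C₀.X j)
    (hf : ∀ i, f i i = w i) (hf0 : ∀ i j, i ≠ j → f i j = 0) :
    blk C₀ a b bas f = blockDiagonal' fun i : (Rg a b) => LinearMap.toMatrix (bas i) (bas i) (w i).hom := by
  ext ⟨i, x⟩ ⟨j, y⟩
  by_cases h : i = j
  · subst h
    simp [blk, hf, blockDiagonal'_apply_eq]
  · rw [blockDiagonal'_apply_ne _ _ _ h]
    simp [blk, hf0 _ _ (fun e => h (Subtype.ext e).symm)]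

theorem sum_contraction (s : Homotopy (𝟙 C₀) 0) (i : ℤ) :
    C₀.d i (i + 1) ≫ s.hom (i + 1) i + s.hom i (i - 1) ≫ C₀.d (i - 1) i = 𝟙 (C₀.X i) := by
  have e := s.comm i
  rw [dNext_eq s.hom (show (ComplexShape.up ℤ).Rel i (i + 1) from rfl),
    prevD_eq s.hom (show (ComplexShape.up ℤ).Rel (i - 1) i by simp)] at e
  simp only [HomologicalComplex.id_f, HomologicalComplex.zero_f, add_zero] at e
  exact e.symm

include bas in
/-- For a contractible bounded complex of finite free modules the even and odd determinants agree. -/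
theorem detEven_eq_detOdd_of_basis (hz : ∀ i, i ∉ Finset.Icc a b → IsZero (C₀.X i))
    (s : Homotopy (𝟙 C₀) 0) (w : C₀ ⟶ C₀) : SGA4h.detEven C₀ w = SGA4h.detOdd C₀ w := by
  classical
  let δ : ∀ i j : ℤ, C₀.X i ⟶ C₀.X j := fun i j => if h : i = j then eqToHom (by rw [h]) else 0
  let ω : ∀ i j : ℤ, C₀.X i ⟶ C₀.X j := fun i j => if h : i = j then w.f i ≫ eqToHom (by rw [h]) else 0
  have hd : ∀ i j, j ≠ i + 1 → C₀.d i j = 0 := fun i j h => C₀.shape i j fun e => h e.symm
  have hs : ∀ i j, j ≠ i - 1 → s.hom i j = 0 := fun i j h => s.zero i j fun (e : j + 1 = i) => h (by omega)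
  let D := blk C₀ a b bas C₀.d
  let S := blk C₀ a b bas s.hom
  let W : Matrix (Σ i, ι i) (Σ i, ι i) A := blockDiagonal' fun i : (Rg a b) => LinearMap.toMatrix (bas i) (bas i) (w.f i).hom
  have hW : blk C₀ a b bas ω = W := blk_diag C₀ a b bas w.f ω (fun i => by simp [ω]) (fun i j h => dif_neg h)
  have h1 : blk C₀ a b bas δ = 1 := by
    rw [blk_diag C₀ a b bas (fun i => 𝟙 _) δ (fun i => by simp [δ]) (fun i j h => dif_neg h)]
    simp only [ModuleCat.hom_id, LinearMap.toMatrix_id]
    exact blockDiagonal'_one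
  have hDD : D * D = 0 :=
    (blk_mul C₀ a b bas hz _ _ (fun _ _ => 0) (fun i => i + 1) (fun i m h => hd i m h)
      (fun i j => C₀.d_comp_d _ _ _)).trans (blk_zero C₀ a b bas _ fun _ _ => rfl)
  have hDS : D * S + S * D = 1 := by
    refine ((congrArg₂ (· + ·)
      (blk_mul C₀ a b bas hz C₀.d s.hom (fun i j => s.hom i (i - 1) ≫ C₀.d (i - 1) j) (fun i => i - 1) hs fun _ _ => rfl)
      (blk_mul C₀ a b bas hz s.hom C₀.d (fun i j => C₀.d i (i + 1) ≫ s.hom (i + 1) j) (fun i => i + 1) hd fun _ _ => rfl)).trans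
      (blk_add C₀ a b bas _ _ δ fun i j => ?_)).trans h1
    by_cases h : i = j
    · subst h
      simp only [δ, dif_pos, eqToHom_refl]
      rw [add_comm, sum_contraction]
    · rw [hd (i - 1) j (by omega), hs (i + 1) j (by omega)]
      simp [δ, h]
  have hWD : W * D = D * W := by
    rw [← hW]
    refine (blk_mul C₀ a b bas hz ω C₀.d (fun i j => w.f i ≫ C₀.d i j) (fun i => i + 1) hd fun i j => ?_).trans
      (blk_mul C₀ a b bas hz C₀.d ω (fun i j => w.f i ≫ C₀.d i j) (fun i => i)
        (fun i m h => dif_neg (Ne.symm h)) fun i j => by simp [ω]).symm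
    by_cases h : i + 1 = j
    · subst h
      simp [ω]
    · rw [hd i j (Ne.symm h)]
      simp [ω, h]
  -- the matrices over power series
  let f : A[X] →+* PowerSeries A := Polynomial.coeToPowerSeries.ringHom
  let Φ : Matrix (Σ i, ι i) (Σ i, ι i) A →+* Matrix (Σ i, ι i) (Σ i, ι i) (PowerSeries A) :=
    (f.comp C).mapMatrix
  let B : ∀ i : (Rg a b), Matrix (ι i) (ι i) A[X] := fun i => 1 - (X : A[X]) • (LinearMap.toMatrix (bas i) (bas i) (w.f i).hom).map C
  let Mp : Matrix (Σ i, ι i) (Σ i, ι i) A[X] := 1 - (X : A[X]) • W.map C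
  have hMp : Mp = blockDiagonal' B := by
    simp only [Mp, W, B]
    rw [blockDiagonal'_map _ _ (map_zero C), ← blockDiagonal'_smul, ← blockDiagonal'_one, ← blockDiagonal'_sub]
    rfl
  let deg : (Σ i, ι i) → ℤ := fun x => (x.1 : ℤ)
  have hsupp : ∀ {N : Matrix (Σ i, ι i) (Σ i, ι i) A} {k : ℤ}, Supp deg N k → Supp deg (Φ N) k := by
    intro N k hN i j h
    exact hN i j fun e => h (by simp [Φ, e])
  let M := f.mapMatrix Mp
  have hM : Supp deg M 0 := by
    intro x y h
    by_contra hne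
    refine h ?_
    have hxy : x.1 ≠ y.1 := fun e => hne (by simp [deg, e])
    simp [M, hMp, blockDiagonal'_apply_ne B x.2 y.2 hxy]
  have hMD : M * Φ D = Φ D * M := by
    have e1 : W.map C * D.map C = D.map C * W.map C := by rw [← Matrix.map_mul, ← Matrix.map_mul, hWD]
    have e : Mp * D.map C = D.map C * Mp := by
      simp only [Mp, sub_mul, mul_sub, one_mul, mul_one, Matrix.smul_mul, Matrix.mul_smul, e1]
    have hΦ : Φ D = f.mapMatrix (D.map C) := by
      simp only [Φ, RingHom.mapMatrix_apply, Matrix.map_map]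
      rfl
    rw [hΦ, ← map_mul, ← map_mul, e]
  have hu : IsUnit M := by
    rw [Matrix.isUnit_iff_isUnit_det, show M.det = f Mp.det from (RingHom.map_det f Mp).symm,
      PowerSeries.isUnit_iff_constantCoeff]
    have : PowerSeries.constantCoeff (f Mp.det) = (Polynomial.evalRingHom 0) Mp.det := by
      simp [f, Polynomial.coeff_zero_eq_eval_zero]
    rw [this, RingHom.map_det]
    convert! isUnit_one (M := A)
    convert! det_one (n := Σ i, ι i) (R := A)
    ext x y
    simp [Mp, Matrix.one_apply, apply_ite (Polynomial.eval (0 : A))]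
  have key := det_even_eq_det_odd (hsupp (supp_blk C₀ a b bas _ 1 fun i j h => hd i j h))
    (hsupp (supp_blk C₀ a b bas _ (-1) fun i j h => hs i j (by omega))) hM
    (by rw [← map_mul, hDD, map_zero]) (by rw [← map_mul, ← map_mul, ← map_add, hDS, map_one]) hMD hu
    (fun n : ℤ => Even n) (fun n => Int.even_add_one)
  -- computing the two determinants
  have hdiag : ∀ p : ℤ → Prop, ∀ [DecidablePred p],
      (diagonal ((fun n => if p n then (1 : PowerSeries A) else 0) ∘ deg) * M +
        diagonal ((fun n => if p n then (0 : PowerSeries A) else 1) ∘ deg)).det =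
      f (∏ i : (Rg a b), if p i then SGA4h.detOneSub (C₀.X i) (w.f i) else 1) := by
    intro p _
    have e : diagonal ((fun n => if p n then (1 : PowerSeries A) else 0) ∘ deg) * M +
        diagonal ((fun n => if p n then (0 : PowerSeries A) else 1) ∘ deg) =
        f.mapMatrix (blockDiagonal' fun i : (Rg a b) => if p i then B i else 1) := by
      ext ⟨i, x⟩ ⟨j, y⟩
      rw [Matrix.add_apply, Matrix.diagonal_mul]
      rcases eq_or_ne i j with rfl | h
      · by_cases hp : p i <;> rcases eq_or_ne x y with rfl | hxy <;>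
          simp [M, hMp, deg, blockDiagonal'_apply_eq, hp, diagonal_apply, Matrix.one_apply, *]
      · have hne : (⟨i, x⟩ : Σ i, ι i) ≠ ⟨j, y⟩ := fun e => h (congrArg Sigma.fst e)
        simp [M, hMp, blockDiagonal'_apply_ne _ _ _ h, diagonal_apply_ne _ hne]
    rw [e, ← RingHom.map_det, det_sigma_blockDiagonal]
    congr 1
    refine Finset.prod_congr rfl fun i _ => ?_
    split_ifs
    · rw [detOneSub_eq (bas i)]
    · exact det_one
  have hodd : ∀ n : ℤ, (if Even n then (0 : PowerSeries A) else 1) = if Odd n then 1 else 0 := fun n => by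
    by_cases h : Even n <;> simp [h, Int.not_odd_iff_even, Int.not_even_iff_odd.1, *]
  have hodd' : ∀ n : ℤ, (if Even n then (1 : PowerSeries A) else 0) = if Odd n then 0 else 1 := fun n => by
    by_cases h : Even n <;> simp [h, Int.not_odd_iff_even, Int.not_even_iff_odd.1, *]
  rw [hdiag (fun n => Even n)] at key
  simp only [hodd, hodd'] at key
  rw [hdiag (fun n => Odd n)] at key
  rw [SGA4h.detEven, SGA4h.detOdd, finprod_eq_prod_Icc C₀ w a b hz, finprod_eq_prod_Icc C₀ w a b hz]
  exact Polynomial.coe_injective A key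

end Contractible

theorem detEven_eq_detOdd (C₀ : CochainComplex (ModuleCat.{u} A) ℤ) (a b : ℤ)
    (hC : ∀ i, Module.Finite A (C₀.X i) ∧ Module.Free A (C₀.X i))
    (hz : ∀ i, i ∉ Finset.Icc a b → IsZero (C₀.X i)) (s : Homotopy (𝟙 C₀) 0) (w : C₀ ⟶ C₀) :
    SGA4h.detEven C₀ w = SGA4h.detOdd C₀ w := by
  classical
  haveI := fun i : ↥(Finset.Icc a b) => (hC i).1
  haveI := fun i : ↥(Finset.Icc a b) => (hC i).2
  exact detEven_eq_detOdd_of_basis C₀ a b (fun i => Module.Free.chooseBasis A (C₀.X i)) hz s w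

end Groth.Agent.DetCxLib
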