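import Mathlib

/-! Alternating determinant of an automorphism of a contractible complex, matrix form. -/

set_option autoImplicit false

universe u v

open Matrix Finset

namespace Groth.Agent.DetCxLib

variable {R : Type u} [CommRing R] {ι : Type v} [Fintype ι] [DecidableEq ι] (deg : ι → ℤ)

/-- The entries of `A` are supported in degree `k`. -/
def Supp (A : Matrix ι ι R) (k : ℤ) : Prop := ∀ i j, A i j ≠ 0 → deg i = deg j + k

variable {deg}

theorem Supp.mul {A B : Matrix ι ι R} {k l : ℤ} (hA : Supp deg A k) (hB : Supp deg B l) :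
    Supp deg (A * B) (k + l) := by
  intro i j h
  rw [Matrix.mul_apply] at h
  obtain ⟨m, -, hm⟩ := Finset.exists_ne_zero_of_sum_ne_zero h
  rw [hA i m (left_ne_zero_of_mul hm), hB m j (right_ne_zero_of_mul hm)]
  ring

theorem Supp.add {A B : Matrix ι ι R} {k : ℤ} (hA : Supp deg A k) (hB : Supp deg B k) :
    Supp deg (A + B) k := by
  intro i j h
  by_cases ha : A i j = 0
  · exact hB i j (by simpa [ha] using h)
  · exact hA i j ha

theorem Supp.sub {A B : Matrix ι ι R} {k : ℤ} (hA : Supp deg A k) (hB : Supp deg B k) :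
    Supp deg (A - B) k := by
  intro i j h
  by_cases ha : A i j = 0
  · exact hB i j (by simpa [ha] using h)
  · exact hA i j ha

omit [Fintype ι] in
theorem supp_diagonal (f : ι → R) : Supp deg (diagonal f) 0 := by
  intro i j h
  rw [add_zero]
  by_contra hne
  exact h (diagonal_apply_ne f fun e => hne (congrArg deg e))

/-- Moving a degree-dependent diagonal matrix past a matrix of degree `k`. -/
theorem Supp.mul_diagonal {A : Matrix ι ι R} {k : ℤ} (hA : Supp deg A k) (f g : ℤ → R)
    (hfg : ∀ j, g (deg j + k) = f (deg j)) :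
    A * diagonal (f ∘ deg) = diagonal (g ∘ deg) * A := by
  ext i j
  rw [Matrix.mul_diagonal, Matrix.diagonal_mul]
  by_cases h : A i j = 0
  · simp [h]
  · simp [Function.comp, hA i j h, hfg, mul_comm]

variable (deg R) in
/-- The projection to degree `n`. -/
def proj (n : ℤ) : Matrix ι ι R := diagonal ((fun m => if m = n then 1 else 0) ∘ deg)

theorem Supp.mul_proj {A : Matrix ι ι R} {k : ℤ} (hA : Supp deg A k) (n : ℤ) :
    A * proj R deg n = proj R deg (n + k) * A :=
  hA.mul_diagonal _ _ fun j => by simp

theorem proj_mul_self (n : ℤ) : proj R deg n * proj R deg n = proj R deg n := by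
  rw [proj, diagonal_mul_diagonal]
  congr 1
  funext i
  by_cases h : deg i = n <;> simp [h]

theorem proj_mul_of_ne {m n : ℤ} (h : m ≠ n) : proj R deg m * proj R deg n = 0 := by
  rw [proj, proj, diagonal_mul_diagonal, ← diagonal_zero]
  congr 1
  funext i
  simp only [Function.comp_apply]
  split_ifs <;> simp_all

omit [Fintype ι] in
theorem proj_eq_zero {n : ℤ} (h : ∀ i, deg i ≠ n) : proj R deg n = 0 := by
  rw [proj, ← diagonal_zero]
  congr 1
  funext i
  simp [h i]

theorem supp_zero_of_commute {A : Matrix ι ι R} (h : ∀ n, A * proj R deg n = proj R deg n * A) :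
    Supp deg A 0 := by
  intro i j hij
  by_contra hne
  rw [add_zero] at hne
  have e := congrFun (congrFun (h (deg j)) i) j
  simp [proj, Matrix.mul_diagonal, Matrix.diagonal_mul, hne] at e
  exact hij e

/-- Adding a part of negative degree does not change the determinant of a matrix of degree zero. -/
theorem det_add_supp {A Z : Matrix ι ι R} (hA : Supp deg A 0) {k : ℤ} (hk : k < 0) (hZ : Supp deg Z k) :
    (A + Z).det = A.det := by
  have h1 : BlockTriangular A deg := fun i j h => by
    by_contra hne; have := hA i j hne; omega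
  have h2 : BlockTriangular Z deg := fun i j h => by
    by_contra hne; have := hZ i j hne; omega
  rw [(h1.add h2).det, h1.det]
  refine Finset.prod_congr rfl fun n _ => ?_
  congr 1
  ext i j
  have hz : Z i.1 j.1 = 0 := by
    by_contra hne
    have h := hZ i j hne
    have h3 : deg i.1 = n := i.2
    have h4 : deg j.1 = n := j.2
    omega
  simp [toSquareBlock_def, hz]

section

variable {D S M : Matrix ι ι R} (hD : Supp deg D 1) (hS : Supp deg S (-1)) (hM : Supp deg M 0)
  (hDD : D * D = 0) (hDS : D * S + S * D = 1) (hMD : M * D = D * M)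

include hD hS hDD in
theorem det_one_add_proj {S' : Matrix ι ι R} (hS' : Supp deg S' (-1)) (hDS' : D * S' + S' * D = 1)
    (hDS : D * S + S * D = 1) (n : ℤ) : (1 + D * (S' - S) * proj R deg n).det = 1 := by
  obtain ⟨lo, hlo⟩ : ∃ lo, ∀ i, lo ≤ deg i := by
    obtain ⟨lo, hlo⟩ := Set.Finite.bddBelow (Set.finite_range deg)
    exact ⟨lo, fun i => hlo ⟨i, rfl⟩⟩
  set h := S' - S with hh
  have hhs : Supp deg h (-1) := hS'.sub hS
  have hanti : D * h + h * D = 0 := by
    rw [hh, mul_sub, sub_mul, sub_add_sub_comm, hDS', hDS, sub_self]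
  have hsq : D * h * (D * h) = 0 := by
    rw [eq_neg_of_add_eq_zero_left hanti, neg_mul_neg]
    rw [show h * D * (h * D) = h * (D * h) * D by simp only [mul_assoc],
      eq_neg_of_add_eq_zero_left hanti]
    simp [mul_assoc, hDD]
  have hc : ∀ n, D * h * proj R deg n = proj R deg n * (D * h) := fun n => by
    have := (hD.mul hhs).mul_proj n
    simpa using this
  have hstep : ∀ n, (1 + D * h * proj R deg n).det * (1 - D * h * proj R deg n).det = 1 := fun n => by
    rw [← det_mul]
    have : D * h * proj R deg n * (D * h * proj R deg n) = 0 := by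
      rw [mul_assoc (D * h), ← mul_assoc (proj R deg n), ← hc, mul_assoc (D * h) (proj R deg n),
        ← mul_assoc (D * h) (D * h), hsq, zero_mul]
    rw [show (1 + D * h * proj R deg n) * (1 - D * h * proj R deg n) =
      1 - D * h * proj R deg n * (D * h * proj R deg n) by noncomm_ring, this, sub_zero, det_one]
  have hbase : ∀ n < lo, (1 + D * h * proj R deg n).det = 1 := fun n hn => by
    rw [proj_eq_zero fun i => (lt_of_lt_of_le hn (hlo i)).ne']
    simp
  have key : ∀ k : ℕ, (1 + D * h * proj R deg (lo - 1 + k)).det = 1 := fun k => by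
    induction k with
    | zero => exact hbase _ (by simp)
    | succ k ih =>
      have e1 : (1 + D * h * proj R deg (lo - 1 + (k + 1 : ℕ))).det =
          (1 - D * h * proj R deg (lo - 1 + k)).det := by
        rw [mul_assoc, det_one_add_mul_comm, mul_assoc]
        have e2 : proj R deg (lo - 1 + (k + 1 : ℕ)) * D = D * proj R deg (lo - 1 + k) := by
          rw [hD.mul_proj]; congr 2; push_cast; ring
        rw [e2, ← mul_assoc, eq_neg_of_add_eq_zero_right hanti, neg_mul, ← sub_eq_add_neg]
      rw [e1]
      simpa [ih] using hstep (lo - 1 + k)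
  by_cases hn : n < lo
  · exact hbase n hn
  · have := key (n - (lo - 1)).toNat
    rwa [Int.toNat_of_nonneg (by omega), show lo - 1 + (n - (lo - 1)) = n by ring] at this

include hD hS hM hDD hDS hMD in
/-- For an automorphism of a contractible complex the even and odd determinants agree. -/
theorem det_even_eq_det_odd (hu : IsUnit M) (ev : ℤ → Prop) [DecidablePred ev] (hev : ∀ n, ev (n + 1) ↔ ¬ ev n) :
    (diagonal ((fun n => if ev n then (1 : R) else 0) ∘ deg) * M +
        diagonal ((fun n => if ev n then (0 : R) else 1) ∘ deg)).det =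
      (diagonal ((fun n => if ev n then (0 : R) else 1) ∘ deg) * M +
        diagonal ((fun n => if ev n then (1 : R) else 0) ∘ deg)).det := by
  classical
  set fe : ℤ → R := fun n => if ev n then (1 : R) else 0
  set fo : ℤ → R := fun n => if ev n then (0 : R) else 1
  set Pe := diagonal (fe ∘ deg) with hPe
  set Po := diagonal (fo ∘ deg) with hPo
  have hsum : Pe + Po = 1 := by
    rw [hPe, hPo, diagonal_add, ← diagonal_one]
    congr 1
    funext i
    simp only [fe, fo, Function.comp_apply]
    split_ifs <;> simp
  have hee : Pe * Pe = Pe := by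
    rw [hPe, diagonal_mul_diagonal]; congr 1; funext i; simp only [fe, Function.comp_apply]; split_ifs <;> simp
  have hoe : Po * Pe = 0 := by
    rw [hPe, hPo, diagonal_mul_diagonal, ← diagonal_zero]
    congr 1; funext i; simp only [fe, fo, Function.comp_apply]; split_ifs <;> simp
  have heo : Pe * Po = 0 := by
    rw [hPe, hPo, diagonal_mul_diagonal, ← diagonal_zero]
    congr 1; funext i; simp only [fe, fo, Function.comp_apply]; split_ifs <;> simp
  have hoo : Po * Po = Po := by
    have := congrArg (Po * ·) hsum
    simpa [mul_add, hoe] using this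
  have hflip : ∀ {A : Matrix ι ι R} {k : ℤ}, Supp deg A k → (k = 1 ∨ k = -1) →
      A * Pe = Po * A ∧ A * Po = Pe * A := by
    intro A k hA hk
    have hk' : ∀ n, ev (n + k) ↔ ¬ ev n := fun n => by
      rcases hk with rfl | rfl
      · exact hev n
      · have := hev (n + -1)
        rw [show n + -1 + 1 = n by ring] at this
        tauto
    constructor <;> refine hA.mul_diagonal _ _ fun j => ?_
    all_goals simp only [fe, fo]; split_ifs <;> first | rfl | (exfalso; have := hk' (deg j); tauto)
  have hMe : M * Pe = Pe * M := hM.mul_diagonal _ _ fun j => by simp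
  have hMo : M * Po = Po * M := hM.mul_diagonal _ _ fun j => by simp
  obtain ⟨U, rfl⟩ := hu
  have hMi : Supp deg ((U⁻¹ : (Matrix ι ι R)ˣ) : Matrix ι ι R) 0 := supp_zero_of_commute fun n => by
    have := hM.mul_proj n
    rw [add_zero] at this
    exact ((Commute.units_inv_right (show Commute (proj R deg n) (U : Matrix ι ι R) from this.symm)).symm : _)
  set S' : Matrix ι ι R := (U : Matrix ι ι R) * S * ((U⁻¹ : (Matrix ι ι R)ˣ) : Matrix ι ι R) with hS'def
  have hS' : Supp deg S' (-1) := by
    have := (hM.mul hS).mul hMi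
    rw [zero_add, add_zero] at this
    exact this
  have hDUi : D * ((U⁻¹ : (Matrix ι ι R)ˣ) : Matrix ι ι R) = ((U⁻¹ : (Matrix ι ι R)ˣ) : Matrix ι ι R) * D :=
    (Commute.units_inv_right (show Commute D (U : Matrix ι ι R) from hMD.symm) : _)
  have hDS' : D * S' + S' * D = 1 := by
    calc D * S' + S' * D = (U : Matrix ι ι R) * (D * S + S * D) * ((U⁻¹ : (Matrix ι ι R)ˣ) : Matrix ι ι R) := by
          rw [hS'def, mul_add, add_mul]
          congr 1
          · simp only [← mul_assoc]; rw [hMD]
          · simp only [mul_assoc]; rw [hDUi]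
      _ = 1 := by rw [hDS, mul_one, Units.mul_inv]
  have hE : (D + S) * (D + S) = 1 + S * S := by
    rw [← hDS]
    simp only [add_mul, mul_add, hDD]
    abel
  have hdE : (D + S).det * (D + S).det = 1 := by
    rw [← det_mul, hE, det_add_supp (by simpa using supp_diagonal (deg := deg) (fun _ => (1 : R)))
      (by norm_num : (-1 : ℤ) + -1 < 0) (hS.mul hS), det_one]
  set E2 := (D + S') * Pe + (D + S) * Po with hE2
  have hMD' : ((U : Matrix ι ι R) : Matrix ι ι R) * (D + S) = (D + S') * (U : Matrix ι ι R) := by
    rw [mul_add, add_mul, hMD, hS'def, Units.inv_mul_cancel_right]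
  have hconj : (Po * (U : Matrix ι ι R) + Pe) * (D + S) = E2 * (Pe * (U : Matrix ι ι R) + Po) := by
    have l : (Po * (U : Matrix ι ι R) + Pe) * (D + S) = (U : Matrix ι ι R) * (D + S) * Pe + (D + S) * Po := by
      rw [← hMo, add_mul, mul_assoc, mul_add Po, ← (hflip hD (.inl rfl)).1, ← (hflip hS (.inr rfl)).1,
        ← add_mul, mul_add Pe, ← (hflip hD (.inl rfl)).2, ← (hflip hS (.inr rfl)).2, ← add_mul, ← mul_assoc]
    have r : ∀ A B : Matrix ι ι R, (A * Pe + B * Po) * (Pe * (U : Matrix ι ι R) + Po) =
        A * (Pe * Pe) * (U : Matrix ι ι R) + A * (Pe * Po) + B * (Po * Pe) * (U : Matrix ι ι R) + B * (Po * Po) :=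
      fun A B => by noncomm_ring
    rw [l, hMD', hE2, r, hee, heo, hoe, hoo, mul_zero, add_zero, mul_zero, zero_mul, add_zero, mul_assoc _ Pe,
      ← hMe, mul_assoc _ _ Pe]
  have hY : ∀ s : Finset ℤ, (1 + D * (S' - S) * ∑ n ∈ s, proj R deg n).det = 1 := by
    intro s
    induction s using Finset.induction with
    | empty => simp
    | insert a s ha ih =>
      have hcr : proj R deg a * (D * (S' - S)) = D * (S' - S) * proj R deg a := by
        have := ((hD.mul (hS'.sub hS)).mul_proj a).symm
        simpa using this
      have hz : D * (S' - S) * proj R deg a * (D * (S' - S) * ∑ n ∈ s, proj R deg n) = 0 := by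
        rw [← mul_assoc (D * (S' - S) * proj R deg a), mul_assoc _ (proj R deg a) (D * (S' - S)), hcr,
          ← mul_assoc, mul_assoc _ (proj R deg a), Finset.mul_sum,
          Finset.sum_eq_zero fun n hn => proj_mul_of_ne (fun e : a = n => ha (e ▸ hn)), mul_zero]
      have : (1 + D * (S' - S) * proj R deg a) * (1 + D * (S' - S) * ∑ n ∈ s, proj R deg n) =
          1 + D * (S' - S) * ∑ n ∈ insert a s, proj R deg n := by
        rw [Finset.sum_insert ha, add_mul, one_mul, mul_add (D * (S' - S) * proj R deg a), mul_one, hz, mul_add]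
        abel
      rw [← this, det_mul, ih, det_one_add_proj hD hS hDD hS' hDS' hDS a, one_mul]
  have hdE2 : (D + S).det * E2.det = 1 := by
    have e : (D + S) * E2 = (1 + D * (S' - S) * Pe) + (S * S' * Pe + S * S * Po) := by
      rw [hE2, mul_add (D + S), ← mul_assoc, ← mul_assoc, hE]
      have : (D + S) * (D + S') = 1 + D * (S' - S) + S * S' := by
        rw [← hDS]
        simp only [add_mul, mul_add, mul_sub, hDD]
        abel
      rw [this]
      conv_rhs => rw [show (1 : Matrix ι ι R) = Pe + Po from hsum.symm]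
      simp only [add_mul, one_mul]
      abel
    have hz : Supp deg (S * S' * Pe + S * S * Po) (-1 + -1 + 0) :=
      ((hS.mul hS').mul (supp_diagonal _)).add ((hS.mul hS).mul (supp_diagonal _))
    have h1 : Supp deg (1 + D * (S' - S) * Pe) 0 := by
      refine Supp.add (by simpa using supp_diagonal (deg := deg) (fun _ => (1 : R))) ?_
      simpa using (hD.mul (hS'.sub hS)).mul (supp_diagonal (fe ∘ deg))
    rw [← det_mul, e, det_add_supp h1 (by norm_num : (-1 : ℤ) + -1 + 0 < 0) hz]
    have hPsum : Pe = ∑ n ∈ (Finset.univ.image deg).filter ev, proj R deg n := by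
      ext i j
      rw [Matrix.sum_apply]
      rcases eq_or_ne i j with rfl | hij
      · simp [hPe, fe, proj, Finset.sum_ite_eq]
      · simp [hPe, proj, diagonal_apply_ne _ hij]
    rw [hPsum]
    exact hY _
  have := congrArg Matrix.det hconj
  rw [det_mul, det_mul] at this
  calc (Pe * (U : Matrix ι ι R) + Po).det = (D + S).det * E2.det * (Pe * (U : Matrix ι ι R) + Po).det := by rw [hdE2, one_mul]
    _ = (D + S).det * ((Po * (U : Matrix ι ι R) + Pe).det * (D + S).det) := by rw [mul_assoc, this]
    _ = (Po * (U : Matrix ι ι R) + Pe).det := by rw [mul_left_comm, hdE, mul_one]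

end

end Groth.Agent.DetCxLib
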